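import Groth.Agent.Lib.GrpHomog20.Apps
import Groth.Agent.Lib.AbRigid.Maximal
import Groth.Agent.Lib.OrbitTop19.Base

/-!
# The component of the unit of any group scheme over a field
-/

universe u

open CategoryTheory Limits MonoidalCategory CartesianMonoidalCategory AlgebraicGeometry Topology
open scoped MonObj GrpObj

set_option autoImplicit false
set_option linter.style.haveILetI false
set_option backward.isDefEq.respectTransparency false

namespace Groth.Agent.GrpComp19

open Groth.Agent.GrpHomog20

variable {k : Type u} [Field k] (G : Over (Spec (CommRingCat.of k))) [GrpObj G]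

/-- The unit point. -/
noncomputable abbrev e₀ : G.left := η[G].left (IsLocalRing.closedPoint k : Spec (CommRingCat.of k))

theorem component_eq : ∃ M₀ : G.left, FlatH4.IsMaxPt M₀ ∧ M₀ ⤳ e₀ G ∧
    ∀ x : G.left, ∃ M, FlatH4.IsMaxPt M ∧ M ⤳ x ∧ connectedComponent x = closure {M} := by
  haveI := AbRigid.isSeparated_of_grpObj G
  haveI : QuasiSeparatedSpace G.left := quasiSeparatedSpace_of_quasiSeparated G.hom
  obtain ⟨M₀, hM₀, hM₀e⟩ := FlatH4.exists_isMaxPt_specializes (e₀ G)
  refine ⟨M₀, hM₀, hM₀e, fun x => ?_⟩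
  obtain ⟨M, hM, hMx⟩ := FlatH4.exists_isMaxPt_specializes x
  exact ⟨M, hM, hMx, connectedComponent_eq_closure hM₀ hM₀e (OrbitTop19.mulAction G) (surjective_mul G) hM hMx⟩

theorem isIrreducible_connectedComponent (x : G.left) : IsIrreducible (connectedComponent x) := by
  obtain ⟨M₀, -, -, h⟩ := component_eq G
  obtain ⟨M, -, -, e⟩ := h x
  rw [e]; exact isIrreducible_singleton.closure

theorem unit_component : ∃ M₀ : G.left, FlatH4.IsMaxPt M₀ ∧ M₀ ⤳ e₀ G ∧
    connectedComponent (e₀ G) = closure {M₀} := by
  obtain ⟨M₀, hM₀, hM₀e, h⟩ := component_eq G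
  obtain ⟨M, hM, hMx, e⟩ := h (e₀ G)
  exact ⟨M, hM, hMx, e⟩

theorem isCompact_connectedComponent_unit : IsCompact (connectedComponent (e₀ G)) := by
  obtain ⟨M₀, hM₀, hM₀e, e⟩ := unit_component G
  rw [e]; exact isCompact_component hM₀ hM₀e

theorem irreducibleSpace [ConnectedSpace G.left] : IrreducibleSpace G.left := by
  rw [irreducibleSpace_def]
  have h := isIrreducible_connectedComponent G (e₀ G)
  rwa [PreconnectedSpace.connectedComponent_eq_univ] at h

theorem geometricallyIrreducible_of_range {Z : Scheme.{u}} (i : Z ⟶ G.left) [IsClosedImmersion i]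
    (hi : Set.range i = connectedComponent (e₀ G)) : GeometricallyIrreducible (i ≫ G.hom) := by
  obtain ⟨M₀, hM₀, hM₀e, e⟩ := unit_component G
  exact geometricallyIrreducible_component (OrbitTop19.mulAction G) (surjective_mul G) η[G] hM₀ hM₀e i (hi.trans e)

theorem compactSpace_of_range {Z : Scheme.{u}} (i : Z ⟶ G.left) [IsClosedImmersion i]
    (hi : Set.range i = connectedComponent (e₀ G)) : CompactSpace Z := by
  constructor
  rw [i.isEmbedding.isCompact_iff, Set.image_univ, hi]
  exact isCompact_connectedComponent_unit G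

end Groth.Agent.GrpComp19
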